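import Groth.Agent.EtPtClassLib.Main
import Groth.Prelude.Def_AlgSpOX3
import Mathlib.CategoryTheory.Sites.Point.Basic
import Mathlib.FieldTheory.IsAlgClosed.AlgebraicClosure

/-!
# Points of the small étale site of an algebraic space are geometric points

A point of the site comes, after choosing an element of its fibre functor, from a point of the small
étale site of a chart `T ⟶ X`, hence from a geometric point of `T`.
-/

set_option autoImplicit false
set_option linter.unusedSectionVars false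
set_option linter.style.haveILetI false
set_option backward.isDefEq.respectTransparency false
set_option backward.isDefEq.respectTransparency.types false
set_option maxHeartbeats 1000000

universe u

open CategoryTheory CategoryTheory.Limits AlgebraicGeometry Opposite AlgSp

namespace Groth.Agent.AlgSpPtClassLib

open EtShLib EtPtClassLib

variable {S : Scheme.{u}} {X : Sp S} (P : GrothendieckTopology.Point.{u} (etTop X))

theorem pmap {A B C : EtOver X} (f : A ⟶ B) (g : B ⟶ C) (e : P.fiber.obj A) :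
    P.fiber.map g (P.fiber.map f e) = P.fiber.map (f ≫ g) e :=
  (Functor.map_comp_apply P.fiber f g e).symm

variable (E0 : EtOver X) (e0 : P.fiber.obj E0)

/-- The base of the chart. -/
abbrev base : Scheme.{u} := E0.obj.left.left

/-- The site of the chart inside the site of `X`. -/
noncomputable abbrev chart : (base E0).Etale ⥤ EtOver X := EtOver.ofChart E0.obj.hom E0.property

/-- The structure morphism to the chart. -/
noncomputable def σ (U : (base E0).Etale) : (chart E0).obj U ⟶ E0 :=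
  EtOver.homMk (EtOver.homOfEtale U) rfl

theorem σ_left (U : (base E0).Etale) : (σ E0 U).hom.left.left = U.hom := rfl

theorem σ_nat {U V : (base E0).Etale} (φ : V ⟶ U) : (chart E0).map φ ≫ σ E0 U = σ E0 V :=
  EtOver.hom_ext _ _ (Over.OverMorphism.ext (MorphismProperty.Over.w φ))

/-- A morphism of the site over the chart comes from the chart. -/
noncomputable def descHom {U V : (base E0).Etale} (g : (chart E0).obj V ⟶ (chart E0).obj U)
    (hg : g ≫ σ E0 U = σ E0 V) : V ⟶ U :=
  MorphismProperty.Over.homMk g.hom.left.left (congrArg (fun t => t.hom.left.left) hg) trivial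

theorem chart_descHom {U V : (base E0).Etale} (g : (chart E0).obj V ⟶ (chart E0).obj U)
    (hg : g ≫ σ E0 U = σ E0 V) : (chart E0).map (descHom E0 g hg) = g :=
  EtOver.hom_ext _ _ (Over.OverMorphism.ext rfl)

/-- An object over the chart. -/
noncomputable def ofMap {Z : EtOver X} (q : Z ⟶ E0) : (base E0).Etale :=
  MorphismProperty.Over.mk ⊤ q.hom.left.left (EtOver.etale_left q)

/-- It is the given object. -/
noncomputable def εhom {Z : EtOver X} (q : Z ⟶ E0) : (chart E0).obj (ofMap E0 q) ⟶ Z :=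
  EtOver.homMk (Over.homMk (𝟙 _) ((Category.id_comp _).trans (Over.w q.hom.left).symm)) (by
    refine ((congrArg ((yon S).map _ ≫ ·) (EtOver.w q).symm).trans ?_)
    show _ = (yon S).map (EtOver.homOfEtale (ofMap E0 q)) ≫ E0.obj.hom
    rw [← Category.assoc, ← Functor.map_comp]
    congr 2)

/-- The inverse. -/
noncomputable def εinv {Z : EtOver X} (q : Z ⟶ E0) : Z ⟶ (chart E0).obj (ofMap E0 q) :=
  EtOver.homMk (Over.homMk (𝟙 _) ((Category.id_comp _).trans (Over.w q.hom.left))) (by
    show _ ≫ (yon S).map (EtOver.homOfEtale (ofMap E0 q)) ≫ E0.obj.hom = _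
    rw [← Category.assoc, ← Functor.map_comp]
    refine (congrArg (fun t => (yon S).map t ≫ E0.obj.hom) ?_).trans (EtOver.w q)
    exact Over.OverMorphism.ext (Category.id_comp _))

theorem εinv_εhom {Z : EtOver X} (q : Z ⟶ E0) : εinv E0 q ≫ εhom E0 q = 𝟙 Z :=
  EtOver.hom_ext _ _ (Over.OverMorphism.ext (Category.id_comp _))

theorem εinv_σ {Z : EtOver X} (q : Z ⟶ E0) : εinv E0 q ≫ σ E0 (ofMap E0 q) = q :=
  EtOver.hom_ext _ _ (Over.OverMorphism.ext (Category.id_comp _))

theorem εhom_q {Z : EtOver X} (q : Z ⟶ E0) : εhom E0 q ≫ q = σ E0 (ofMap E0 q) :=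
  EtOver.hom_ext _ _ (Over.OverMorphism.ext (Category.id_comp _))

/-- The fibre functor on the site of the chart. -/
noncomputable def fib : (base E0).Etale ⥤ Type u where
  obj U := {e : P.fiber.obj ((chart E0).obj U) // P.fiber.map (σ E0 U) e = e0}
  map {V U} φ := ↾fun e => ⟨P.fiber.map ((chart E0).map φ) e.1, by rw [pmap, σ_nat]; exact e.2⟩
  map_id U := by
    ext e
    show P.fiber.map ((chart E0).map (𝟙 U)) e.1 = e.1
    rw [(chart E0).map_id, Functor.map_id_apply]
  map_comp φ ψ := by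
    ext e
    show P.fiber.map ((chart E0).map (φ ≫ ψ)) e.1 =
      P.fiber.map ((chart E0).map ψ) (P.fiber.map ((chart E0).map φ) e.1)
    rw [(chart E0).map_comp, Functor.map_comp_apply]

theorem fib_map_coe {U V : (base E0).Etale} (φ : V ⟶ U) (e : (fib P E0 e0).obj V) :
    ((fib P E0 e0).map φ e).1 = P.fiber.map ((chart E0).map φ) e.1 := rfl

/-- The element of an object over the chart. -/
noncomputable def elt {Z : EtOver X} (q : Z ⟶ E0) (c : P.fiber.obj Z) (hc : P.fiber.map q c = e0) :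
    (fib P E0 e0).obj (ofMap E0 q) :=
  ⟨P.fiber.map (εinv E0 q) c, by rw [pmap, εinv_σ]; exact hc⟩

theorem map_elt {Z : EtOver X} (q : Z ⟶ E0) (c : P.fiber.obj Z) (hc : P.fiber.map q c = e0)
    {U : (base E0).Etale} (h : Z ⟶ (chart E0).obj U) (hh : (εhom E0 q ≫ h) ≫ σ E0 U = σ E0 (ofMap E0 q)) :
    ((fib P E0 e0).map (descHom E0 (εhom E0 q ≫ h) hh) (elt P E0 e0 q c hc)).1 = P.fiber.map h c := by
  rw [fib_map_coe, chart_descHom, elt, pmap, ← Category.assoc, εinv_εhom, Category.id_comp]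

theorem exists_eq {A B : EtOver X} (f g : A ⟶ B) (c : P.fiber.obj A) (h : P.fiber.map f c = P.fiber.map g c) :
    ∃ (Z : EtOver X) (r : Z ⟶ A) (d : P.fiber.obj Z), P.fiber.map r d = c ∧ r ≫ f = r ≫ g := by
  let f' : P.fiber.elementsMk A c ⟶ P.fiber.elementsMk B (P.fiber.map g c) := ⟨f, h⟩
  let g' : P.fiber.elementsMk A c ⟶ P.fiber.elementsMk B (P.fiber.map g c) := ⟨g, rfl⟩
  exact ⟨_, (IsCofiltered.eqHom f' g').1, _, (IsCofiltered.eqHom f' g').2,
    congrArg Subtype.val (IsCofiltered.eq_condition f' g')⟩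

theorem exists_span' {A B : EtOver X} (d : P.fiber.obj A) (e : P.fiber.obj B) :
    ∃ (Z : EtOver X) (a : Z ⟶ A) (b : Z ⟶ B) (c : P.fiber.obj Z), P.fiber.map a c = d ∧ P.fiber.map b c = e := by
  obtain ⟨⟨W, c⟩, a, b, -⟩ := IsCofilteredOrEmpty.cone_objs (P.fiber.elementsMk A d) (P.fiber.elementsMk B e)
  exact ⟨W, a.1, b.1, c, a.2, b.2⟩

theorem isCofilteredOrEmpty_fib : IsCofilteredOrEmpty (fib P E0 e0).Elements where
  cone_objs := fun ⟨U, d⟩ ⟨V, e⟩ => by
    obtain ⟨Z, a, b, c, ha, hb⟩ := exists_span' P d.1 e.1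
    obtain ⟨Z', r, c', hr, hrr⟩ := exists_eq P (a ≫ σ E0 U) (b ≫ σ E0 V) c
      (by rw [← pmap, ← pmap, ha, hb, d.2, e.2])
    let q := r ≫ a ≫ σ E0 U
    have hc : P.fiber.map q c' = e0 := by rw [← pmap, hr, ← pmap, ha, d.2]
    have hhU : (εhom E0 q ≫ r ≫ a) ≫ σ E0 U = σ E0 (ofMap E0 q) := by
      rw [Category.assoc, Category.assoc]; exact εhom_q E0 q
    have hhV : (εhom E0 q ≫ r ≫ b) ≫ σ E0 V = σ E0 (ofMap E0 q) := by
      rw [Category.assoc, Category.assoc, ← hrr]; exact εhom_q E0 q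
    refine ⟨⟨ofMap E0 q, elt P E0 e0 q c' hc⟩, ⟨descHom E0 _ hhU, Subtype.ext ?_⟩,
      ⟨descHom E0 _ hhV, Subtype.ext ?_⟩, trivial⟩
    · exact (map_elt P E0 e0 q c' hc (r ≫ a) hhU).trans (by rw [← pmap, hr, ha])
    · exact (map_elt P E0 e0 q c' hc (r ≫ b) hhV).trans (by rw [← pmap, hr, hb])
  cone_maps := fun ⟨U, d⟩ ⟨V, e⟩ f g => by
    obtain ⟨Z, r, c, hr, hrr⟩ := exists_eq P ((chart E0).map f.1) ((chart E0).map g.1) d.1
      ((congrArg Subtype.val f.2).trans (congrArg Subtype.val g.2).symm)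
    let q := r ≫ σ E0 U
    have hc : P.fiber.map q c = e0 := by rw [← pmap, hr, d.2]
    have hhU : (εhom E0 q ≫ r) ≫ σ E0 U = σ E0 (ofMap E0 q) := by
      rw [Category.assoc]; exact εhom_q E0 q
    refine ⟨⟨ofMap E0 q, elt P E0 e0 q c hc⟩, ⟨descHom E0 _ hhU, Subtype.ext ?_⟩, Subtype.ext ?_⟩
    · exact (map_elt P E0 e0 q c hc r hhU).trans hr
    · refine (chart E0).map_injective ?_
      show (chart E0).map (descHom E0 _ hhU ≫ f.1) = (chart E0).map (descHom E0 _ hhU ≫ g.1)
      rw [Functor.map_comp, Functor.map_comp, chart_descHom, Category.assoc, Category.assoc, hrr]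

theorem isCofiltered_fib : IsCofiltered (fib P E0 e0).Elements :=
  @IsCofiltered.mk _ _ (isCofilteredOrEmpty_fib P E0 e0)
    ⟨⟨ofMap E0 (𝟙 E0), elt P E0 e0 (𝟙 E0) e0 (Functor.map_id_apply P.fiber E0 e0)⟩⟩

theorem initiallySmall_fib : InitiallySmall.{u} (fib P E0 e0).Elements :=
  haveI := isCofilteredOrEmpty_fib P E0 e0
  initiallySmall_of_essentiallySmall_weakly_initial_objectProperty
    (Functor.Elements.precomp (Scheme.AffineEtale.Spec (base E0)) (fib P E0 e0)).essImage (by
    rintro ⟨U, d⟩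
    have hc : ∀ x : U.left, ∃ (R : CommRingCat.{u}) (j : Spec R ⟶ U.left) (_ : IsOpenImmersion j),
        x ∈ Set.range j.base := fun x => by
      obtain ⟨R, j, hji, hx, -⟩ := Scheme.exists_affine_mem_range_and_range_subset
        (x := x) (U := ⊤) (by simp)
      exact ⟨R, j, hji, hx⟩
    choose R j hj hx using hc
    haveI : Etale U.hom := U.prop
    let W : U.left → (Scheme.AffineEtale (base E0)) := fun x =>
      haveI := hj x
      Scheme.AffineEtale.mk (j x ≫ U.hom)
    let m : ∀ x, (Scheme.AffineEtale.Spec (base E0)).obj (W x) ⟶ U := fun x =>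
      MorphismProperty.Over.homMk (j x) rfl trivial
    obtain ⟨Y, f, hf, y, hy⟩ := P.jointly_surjective _
      (ofArrows_mem_etTop (fun x => (chart E0).obj ((Scheme.AffineEtale.Spec (base E0)).obj (W x)))
        (fun x => (chart E0).map (m x)) fun x => ⟨x, hx x⟩) d.1
    obtain ⟨_, g, _, ⟨x⟩, rfl⟩ := hf
    refine ⟨_, ⟨Functor.elementsMk _ (W x) ⟨P.fiber.map g y, ?_⟩, ⟨Iso.refl _⟩⟩, ⟨⟨m x, Subtype.ext ?_⟩⟩⟩
    · rw [← σ_nat E0 (m x), pmap, ← Category.assoc, ← pmap, hy]
      exact d.2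
    · exact (pmap P g ((chart E0).map (m x)) y).trans hy)

theorem jointly_surjective_fib {U : (base E0).Etale} (R : Sieve U) (hR : R ∈ (base E0).smallEtaleTopology U)
    (d : (fib P E0 e0).obj U) :
    ∃ (V : (base E0).Etale) (f : V ⟶ U) (_ : R f) (e : (fib P E0 e0).obj V), (fib P E0 e0).map f e = d := by
  choose V f v hf he hv using (mem_iff' R).1 hR
  obtain ⟨Y, g, hg, y, hy⟩ := P.jointly_surjective _
    (ofArrows_mem_etTop (fun x => (chart E0).obj (V x)) (fun x => (chart E0).map (f x))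
      fun x => ⟨x, ⟨v x, hv x⟩⟩) d.1
  obtain ⟨_, h, _, ⟨x⟩, rfl⟩ := hg
  refine ⟨V x, f x, hf x, ⟨P.fiber.map h y, ?_⟩, Subtype.ext ?_⟩
  · rw [← σ_nat E0 (f x), pmap, ← Category.assoc, ← pmap, hy]
    exact d.2
  · exact (pmap P h ((chart E0).map (f x)) y).trans hy

/-- The point of the site of the chart. -/
noncomputable def chartPoint : GrothendieckTopology.Point.{u} (base E0).smallEtaleTopology where
  fiber := fib P E0 e0
  isCofiltered := isCofiltered_fib P E0 e0
  initiallySmall := initiallySmall_fib P E0 e0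
  jointly_surjective := fun R hR d => jointly_surjective_fib P E0 e0 R hR d

section Product

variable (E : EtOver X)

/-- The fibre product with the chart, as an object over the chart. -/
noncomputable def prodObj : (base E0).Etale :=
  MorphismProperty.Over.mk ⊤ (E.property.1.snd E0.obj.hom).left
    (E.property.2 E0.obj.hom _ _ (E.property.1.isPullback E0.obj.hom))

/-- Comparison with the chosen fibre product. -/
noncomputable def prodIso : EtOver.overOfEtale (prodObj E0 E) ≅ E.property.1.pullback E0.obj.hom :=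
  Over.isoMk (Iso.refl _) ((Category.id_comp _).trans (Over.w (E.property.1.snd E0.obj.hom)).symm)

theorem prodIso_snd : (prodIso E0 E).hom ≫ E.property.1.snd E0.obj.hom = EtOver.homOfEtale (prodObj E0 E) :=
  Over.OverMorphism.ext (Category.id_comp _)

/-- The projection to the object. -/
noncomputable def π1 : (chart E0).obj (prodObj E0 E) ⟶ E :=
  EtOver.homMk ((prodIso E0 E).hom ≫ E.property.1.fst' E0.obj.hom) (by
    show _ = (yon S).map (EtOver.homOfEtale (prodObj E0 E)) ≫ E0.obj.hom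
    rw [Functor.map_comp, Category.assoc, Functor.relativelyRepresentable.map_fst',
      Functor.relativelyRepresentable.w, ← Category.assoc, ← Functor.map_comp, prodIso_snd])

theorem π1_left : (π1 E0 E).hom.left = (prodIso E0 E).hom ≫ E.property.1.fst' E0.obj.hom := rfl

theorem σ_prod_left : (σ E0 (prodObj E0 E)).hom.left = (prodIso E0 E).hom ≫ E.property.1.snd E0.obj.hom :=
  (prodIso_snd E0 E).symm

/-- Universal property. -/
theorem exists_prodLift {Z : EtOver X} (b1 : Z ⟶ E) (b2 : Z ⟶ E0) :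
    ∃ g : Z ⟶ (chart E0).obj (prodObj E0 E), g ≫ π1 E0 E = b1 ∧ g ≫ σ E0 (prodObj E0 E) = b2 := by
  let l := E.property.1.lift' b1.hom.left b2.hom.left ((EtOver.w b1).trans (EtOver.w b2).symm)
  refine ⟨EtOver.homMk (l ≫ (prodIso E0 E).inv) ?_, EtOver.hom_ext _ _ ?_, EtOver.hom_ext _ _ ?_⟩
  · show _ ≫ (yon S).map (EtOver.homOfEtale (prodObj E0 E)) ≫ E0.obj.hom = _
    rw [← Category.assoc, ← Functor.map_comp, ← prodIso_snd E0 E]
    rw [Category.assoc l, Iso.inv_hom_id_assoc]
    show (yon S).map (l ≫ _) ≫ _ = _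
    rw [Functor.relativelyRepresentable.lift'_snd]
    exact EtOver.w b2
  · show (l ≫ (prodIso E0 E).inv) ≫ (prodIso E0 E).hom ≫ _ = _
    rw [Category.assoc, Iso.inv_hom_id_assoc]
    exact Functor.relativelyRepresentable.lift'_fst _ _ _ _
  · show (l ≫ (prodIso E0 E).inv) ≫ EtOver.homOfEtale (prodObj E0 E) = _
    rw [← prodIso_snd E0 E, Category.assoc, Iso.inv_hom_id_assoc]
    exact Functor.relativelyRepresentable.lift'_snd _ _ _ _

theorem over_hom_ext {c : Over S} {g g' : c ⟶ EtOver.overOfEtale (prodObj E0 E)}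
    (h1 : g ≫ (π1 E0 E).hom.left = g' ≫ (π1 E0 E).hom.left)
    (h2 : g ≫ EtOver.homOfEtale (prodObj E0 E) = g' ≫ EtOver.homOfEtale (prodObj E0 E)) : g = g' := by
  rw [← prodIso_snd, ← Category.assoc, ← Category.assoc] at h2
  rw [π1_left] at h1
  have h1' := (Category.assoc _ _ _).trans (h1.trans (Category.assoc _ _ _).symm)
  exact (cancel_mono (prodIso E0 E).hom).1 (E.property.1.hom_ext' h1' h2)

theorem prod_hom_ext {Z : EtOver X} {g g' : Z ⟶ (chart E0).obj (prodObj E0 E)}
    (h1 : g ≫ π1 E0 E = g' ≫ π1 E0 E) (h2 : g ≫ σ E0 (prodObj E0 E) = g' ≫ σ E0 (prodObj E0 E)) : g = g' :=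
  EtOver.hom_ext _ _ (over_hom_ext E0 E (congrArg (fun t => t.hom.left) h1) (congrArg (fun t => t.hom.left) h2))

/-- The fibre of an object is the fibre of its product with the chart. -/
noncomputable def toFiber (d : (fib P E0 e0).obj (prodObj E0 E)) : P.fiber.obj E := P.fiber.map (π1 E0 E) d.1

theorem toFiber_bijective : Function.Bijective (toFiber P E0 e0 E) := by
  refine ⟨fun d d' h => ?_, fun e => ?_⟩
  · obtain ⟨Z, a, b, c, ha, hb⟩ := exists_span' P d.1 d'.1
    obtain ⟨Z1, r, c1, hr, hrr⟩ := exists_eq P (a ≫ π1 E0 E) (b ≫ π1 E0 E) c (by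
      rw [← pmap, ← pmap, ha, hb]; exact h)
    obtain ⟨Z2, r', c2, hr', hrr'⟩ := exists_eq P ((r ≫ a) ≫ σ E0 _) ((r ≫ b) ≫ σ E0 _) c1 (by
      rw [← pmap, ← pmap, ← pmap, ← pmap, hr, ha, hb, d.2, d'.2])
    have : r' ≫ r ≫ a = r' ≫ r ≫ b := by
      refine prod_hom_ext E0 E ?_ ?_
      · simp only [Category.assoc]
        rw [hrr]
      · simpa only [Category.assoc] using hrr'
    refine Subtype.ext ?_
    rw [← ha, ← hb, ← hr, ← hr', pmap, pmap, pmap, pmap, this]
  · obtain ⟨Z, b1, b2, c, h1, h2⟩ := exists_span' P e e0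
    obtain ⟨g, hg1, hg2⟩ := exists_prodLift E0 E b1 b2
    exact ⟨⟨P.fiber.map g c, by rw [pmap, hg2, h2]⟩, by rw [toFiber, pmap, hg1, h1]⟩

end Product

section Geometric

variable {Ω : Type u} [Field Ω] [IsAlgClosed Ω] (ξ : Spec (CommRingCat.of Ω) ⟶ base E0)

/-- The geometric point as a morphism over `S`. -/
noncomputable def ptHom : Over.mk (ξ ≫ E0.obj.left.hom) ⟶ E0.obj.left := Over.homMk ξ rfl

/-- The geometric point of `X`. -/
noncomputable def geomPt : FieldPt X where
  K := Ω
  str := ξ ≫ E0.obj.left.hom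
  val := (AlgSp.J S).uliftYonedaEquiv ((yon S).map (ptHom E0 ξ) ≫ E0.obj.hom)

theorem geomPt_toHom : (geomPt E0 ξ).toHom = (yon S).map (ptHom E0 ξ) ≫ E0.obj.hom :=
  Equiv.symm_apply_apply _ _

/-- A lift to the scheme gives a morphism over `S`. -/
noncomputable def liftHom {U : (base E0).Etale} (l : Fib ξ U) :
    Over.mk (ξ ≫ E0.obj.left.hom) ⟶ EtOver.overOfEtale U :=
  Over.homMk l.hom ((Category.assoc _ _ _).symm.trans (congrArg (· ≫ E0.obj.left.hom) l.w))

theorem liftHom_structure {U : (base E0).Etale} (l : Fib ξ U) :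
    liftHom E0 ξ l ≫ EtOver.homOfEtale U = ptHom E0 ξ :=
  Over.OverMorphism.ext l.w

variable (E : EtOver X)

/-- Lifts to the product give lifts to the object. -/
noncomputable def toLift (l : Fib ξ (prodObj E0 E)) : (FieldPt.liftsTo (geomPt E0 ξ)).obj E :=
  ⟨liftHom E0 ξ l ≫ (π1 E0 E).hom.left, by
    rw [geomPt_toHom, Functor.map_comp, Category.assoc, EtOver.w (π1 E0 E)]
    show _ ≫ (yon S).map (EtOver.homOfEtale (prodObj E0 E)) ≫ E0.obj.hom = _
    rw [← Category.assoc, ← Functor.map_comp, liftHom_structure]⟩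

theorem toLift_bijective : Function.Bijective (toLift E0 ξ E) := by
  refine ⟨fun l l' h => Fib.ext ?_, fun v => ?_⟩
  · exact (congrArg CommaMorphism.left (over_hom_ext E0 E (congrArg Subtype.val h)
      ((liftHom_structure E0 ξ l).trans (liftHom_structure E0 ξ l').symm)) :)
  · let m : Over.mk (ξ ≫ E0.obj.left.hom) ⟶ E.property.1.pullback E0.obj.hom :=
      E.property.1.lift' v.1 (ptHom E0 ξ) (v.2.trans (geomPt_toHom E0 ξ))
    have h2 : m ≫ E.property.1.snd E0.obj.hom = ptHom E0 ξ :=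
      Functor.relativelyRepresentable.lift'_snd _ _ _ _
    have h1 : m ≫ E.property.1.fst' E0.obj.hom = v.1 :=
      Functor.relativelyRepresentable.lift'_fst _ _ _ _
    refine ⟨Fib.mk (U := prodObj E0 E) m.left (congrArg CommaMorphism.left h2), Subtype.ext ?_⟩
    show liftHom E0 ξ _ ≫ (prodIso E0 E).hom ≫ _ = _
    rw [← Category.assoc, ← h1]
    congr 1

end Geometric

theorem exists_fiber_iso :
    ∃ p : FieldPt X, p.IsGeometric ∧ Nonempty (P.fiber ≅ FieldPt.liftsTo p) := by
  obtain ⟨⟨E0, e0⟩⟩ := IsCofiltered.nonempty (C := P.fiber.Elements)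
  let Q := chartPoint P E0 e0
  let κ := (base E0).residueField (basePt Q)
  let ξ : Spec (CommRingCat.of (AlgebraicClosure κ)) ⟶ base E0 :=
    Spec.map (CommRingCat.ofHom (algebraMap κ (AlgebraicClosure κ))) ≫
      (base E0).fromSpecResidueField (basePt Q)
  have hξ : ξ.base default = basePt Q := by
    show (Spec.map _ ≫ (base E0).fromSpecResidueField (basePt Q)).base default = _
    rw [Scheme.Hom.comp_apply]
    exact Scheme.fromSpecResidueField_apply _ _
  obtain ⟨L⟩ := exists_liftSys (p := Q) ξ hξ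
  refine ⟨geomPt E0 ξ, (inferInstance : IsAlgClosed (AlgebraicClosure κ)), ⟨NatIso.ofComponents
    (fun E => ((Equiv.ofBijective _ (toFiber_bijective P E0 e0 E)).symm.trans
      ((Equiv.ofBijective (L.θ (prodObj E0 E)) ⟨L.injective _, L.surjective hξ _⟩).trans
        (Equiv.ofBijective _ (toLift_bijective E0 ξ E)))).toIso) (fun {E E'} g => ?_)⟩⟩
  ext e
  obtain ⟨d, rfl⟩ := (toFiber_bijective P E0 e0 E).2 e
  obtain ⟨h, h1, h2⟩ := exists_prodLift E0 E' (π1 E0 E ≫ g) (σ E0 (prodObj E0 E))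
  let φ := descHom E0 h h2
  have hd : P.fiber.map g (toFiber P E0 e0 E d) = toFiber P E0 e0 E' ((fib P E0 e0).map φ d) := by
    rw [toFiber, toFiber, fib_map_coe, pmap, pmap, chart_descHom, h1]
  show toLift E0 ξ E' (L.θ _ ((Equiv.ofBijective _ (toFiber_bijective P E0 e0 E')).symm
      (P.fiber.map g (toFiber P E0 e0 E d)))) =
    (FieldPt.liftsTo (geomPt E0 ξ)).map g (toLift E0 ξ E (L.θ _
      ((Equiv.ofBijective _ (toFiber_bijective P E0 e0 E)).symm (toFiber P E0 e0 E d))))
  rw [hd, Equiv.ofBijective_symm_apply_apply, Equiv.ofBijective_symm_apply_apply]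
  show toLift E0 ξ E' (L.θ _ (Q.fiber.map φ d)) = _
  rw [← L.natural φ d]
  refine Subtype.ext ?_
  show liftHom E0 ξ _ ≫ (π1 E0 E').hom.left = (liftHom E0 ξ _ ≫ (π1 E0 E).hom.left) ≫ g.hom.left
  refine Eq.trans ?_ (Category.assoc _ _ _).symm
  refine Eq.trans ?_ (congrArg (liftHom E0 ξ _ ≫ ·) (congrArg (fun t => t.hom.left) h1))
  show _ = liftHom E0 ξ _ ≫ h.hom.left ≫ (π1 E0 E').hom.left
  rw [← Category.assoc]
  congr 1

/-- The fibre functor on sheaves is the stalk functor at a geometric point. -/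
theorem exists_sheafFiber_iso :
    ∃ p : FieldPt X, p.IsGeometric ∧
      Nonempty (P.sheafFiber (A := Type (u + 1)) ≅ stalkEtFunctor (Type (u + 1)) p) := by
  obtain ⟨p, hp, ⟨φ⟩⟩ := exists_fiber_iso P
  let e : P.fiber.Elements ≌ EtNbhd p :=
    { functor :=
        { obj := fun N => ⟨N.1, φ.hom.app N.1 N.2⟩
          map := fun {N M} g => CategoryOfElements.homMk _ _ g.1
            ((NatTrans.naturality_apply φ.hom g.1 N.2).symm.trans (congrArg _ g.2)) }
      inverse :=
        { obj := fun N => ⟨N.1, φ.inv.app N.1 N.2⟩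
          map := fun {N M} g => CategoryOfElements.homMk _ _ g.1
            ((NatTrans.naturality_apply φ.inv g.1 N.2).symm.trans (congrArg _ g.2)) }
      unitIso := NatIso.ofComponents (fun N => CategoryOfElements.isoMk _ _ (Iso.refl N.1) (by simp))
        (fun _ => Subtype.ext (by simp))
      counitIso := NatIso.ofComponents (fun N => CategoryOfElements.isoMk _ _ (Iso.refl N.1) (by simp))
        (fun _ => Subtype.ext (by simp))
      functor_unitIso_comp := fun N => Subtype.ext (by simp) }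
  haveI : HasColimitsOfShape P.fiber.Elementsᵒᵖ (Type (u + 1)) := inferInstance
  haveI : e.functor.op.IsEquivalence := e.op.isEquivalence_functor
  exact ⟨p, hp, ⟨Functor.isoWhiskerLeft (sheafToPresheaf (etTop X) (Type (u + 1)))
    (Functor.isoWhiskerLeft ((Functor.whiskeringLeft _ _ (Type (u + 1))).obj
      (CategoryOfElements.π (FieldPt.liftsTo p)).op) (Functor.Final.colimIso e.functor.op) :)⟩⟩

end Groth.Agent.AlgSpPtClassLib
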